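import Groth.Agent.Lib.DimFormula14.Scheme
import Groth.Agent.Lib.FibDim14.Semicont
import Mathlib.AlgebraicGeometry.PullbackCarrier

/-!
# Fibre dimension bound over a point with noetherian local ring
-/

universe u

set_option backward.isDefEq.respectTransparency.types false

open CategoryTheory CategoryTheory.Limits AlgebraicGeometry

namespace Groth.Agent.FibIneq18

open FibDim14

theorem closure_mem_irreducibleComponents {X : Scheme.{u}} (η : X) (h : ∀ z, z ⤳ η → z = η) :
    closure ({η} : Set X) ∈ irreducibleComponents (X : Type u) := by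
  refine ⟨isIrreducible_singleton.closure, fun Z hZ hle => ?_⟩
  obtain ⟨g, hg⟩ : ∃ g, IsGenericPoint g (closure Z) :=
    QuasiSober.sober hZ.closure isClosed_closure
  have : g ⤳ η := hg.specializes (subset_closure (hle (subset_closure rfl)))
  obtain rfl := h g this
  exact subset_closure.trans hg.def.ge

theorem exists_generic {X Y : Scheme.{u}} (f : X ⟶ Y) [LocallyOfFiniteType f] (x : X)
    [IsNoetherianRing (Y.presheaf.stalk (f x))] :
    ∃ η x' : X, η ⤳ x' ∧ x' ⤳ x ∧ f x' = f x ∧ (∀ z, z ⤳ η → z = η) ∧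
      FlatMor.fibreDimAt f x = (rd f x' : WithBot ℕ∞) ∧
      FlatMor.fibreDimAt f η = (rd f η : WithBot ℕ∞) ∧
      ((η ≠ x' → 1 + (rd f x' : WithBot ℕ∞) ≤
        ringKrullDim (Y.presheaf.stalk (f x)) + (rd f η : WithBot ℕ∞))) := by
  obtain ⟨x', hsp, he, hmax, -⟩ := exists_fibreDimAt_eq f x
  let g := Y.fromSpecStalk (f x)
  haveI : IsPreimmersion g := inferInstance
  haveI : SurjectiveOnStalks g := inferInstance
  haveI : IsLocallyNoetherian (Spec (Y.presheaf.stalk (f x))) := isLocallyNoetherian_Spec.2 inferInstance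
  let π := pullback.fst f g
  let f' := pullback.snd f g
  haveI : IsPreimmersion π := inferInstance
  haveI : LocallyOfFiniteType f' := MorphismProperty.pullback_snd _ _ inferInstance
  have hrange : ∀ z, f z ⤳ f x → z ∈ Set.range π := fun z hz => by
    rw [Scheme.Pullback.range_fst]
    exact show f z ∈ Set.range g by rw [Scheme.range_fromSpecStalk]; exact hz
  have hrd : ∀ z, rd f' z = rd f (π z) := by
    intro z
    have h1 := rdeg_comp π f z
    have h2 := rdeg_comp f' g z
    rw [rdeg_eq_zero π, add_zero, pullback.condition, h2, rdeg_eq_zero g, zero_add] at h1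
    rw [rd, rd, h1]
  obtain ⟨z', hz'⟩ := hrange x' (he ▸ specializes_rfl)
  obtain ⟨ξ, hξ, hξ0, hineq⟩ := DimFormula14.exists_stalkDim_add_rd_le f' z'
  have hmaxξ : ∀ z, z ⤳ π ξ → z = π ξ := by
    intro z hz
    have hz1 : f z ⤳ f x := ((hz.trans ((hξ.map π.continuous).trans (hz' ▸ hsp))).map f.continuous)
    obtain ⟨w, rfl⟩ := hrange z hz1
    have hw : w ⤳ ξ := π.isEmbedding.isInducing.specializes_iff.1 hz
    by_contra hne
    have hwξ : w ≠ ξ := fun e => hne (congrArg π e)
    obtain ⟨q, hq⟩ : w ∈ Set.range ((pullback f g).fromSpecStalk ξ) := by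
      rw [Scheme.range_fromSpecStalk]; exact hw
    haveI : Ring.KrullDimLE 0 ((pullback f g).presheaf.stalk ξ) :=
      ⟨le_of_eq hξ0⟩
    haveI := Ring.KrullDimLE.subsingleton_primeSpectrum ((pullback f g).presheaf.stalk ξ)
    apply hwξ
    rw [← hq, (Subsingleton.elim (α := PrimeSpectrum ((pullback f g).presheaf.stalk ξ)) q
      (IsLocalRing.closedPoint _) : q = IsLocalRing.closedPoint _)]
    exact Scheme.fromSpecStalk_closedPoint
  have hηfib : FlatMor.fibreDimAt f (π ξ) = (rd f (π ξ) : WithBot ℕ∞) := by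
    obtain ⟨y, hy, -, hd, -⟩ := exists_fibreDimAt_eq f (π ξ)
    rw [hd, hmaxξ y hy]
  refine ⟨π ξ, x', hz' ▸ hξ.map π.continuous, hsp, he, hmaxξ, hmax, hηfib, fun hne => ?_⟩
  have hne' : ξ ≠ z' := fun e => hne (by rw [e, hz'])
  have hdim : (1 : WithBot ℕ∞) ≤ ringKrullDim ((pullback f g).presheaf.stalk z') := by
    obtain ⟨q, hq⟩ : ξ ∈ Set.range ((pullback f g).fromSpecStalk z') := by
      rw [Scheme.range_fromSpecStalk]; exact hξ
    let q' : PrimeSpectrum ((pullback f g).presheaf.stalk z') := q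
    let m' : PrimeSpectrum ((pullback f g).presheaf.stalk z') := IsLocalRing.closedPoint _
    have hle : q' ≤ m' := IsLocalRing.le_maximalIdeal q.2.ne_top
    have hne2 : q' ≠ m' := fun e => hne' (by
      rw [← hq, show q = IsLocalRing.closedPoint _ from e]; exact Scheme.fromSpecStalk_closedPoint)
    exact Order.LTSeries.length_le_krullDim
      ((RelSeries.singleton _ q').snoc m' (lt_of_le_of_ne hle hne2) :
        LTSeries (PrimeSpectrum ((pullback f g).presheaf.stalk z')))
  have hbase : ringKrullDim ((Spec (Y.presheaf.stalk (f x))).presheaf.stalk (f' z')) ≤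
      ringKrullDim (Y.presheaf.stalk (f x)) := by
    rw [DimFormula14.stalkDim_eq_height (isAffineOpen_top _) (Set.mem_univ (f' z')),
      ← ringKrullDim_eq_of_ringEquiv (Scheme.ΓSpecIso (Y.presheaf.stalk (f x))).commRingCatIsoToRingEquiv]
    exact Ideal.height_le_ringKrullDim_of_ne_top Ideal.IsPrime.ne_top'
  rw [hrd, hrd, hz'] at hineq
  exact ((add_le_add hdim le_rfl).trans hineq).trans (add_le_add hbase le_rfl)

theorem fibreDimAt_add_one_le {X Y : Scheme.{u}} (f : X ⟶ Y) [LocallyOfFiniteType f]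
    (x : X) [IsNoetherianRing (Y.presheaf.stalk (f x))] (d : ℕ)
    (hgen : ∀ Z ∈ irreducibleComponents (X : Type u), x ∈ Z → ∀ η : X, IsGenericPoint η Z →
      f η ≠ f x ∧ FlatMor.fibreDimAt f η = d) :
    FlatMor.fibreDimAt f x + 1 ≤ (d : WithBot ℕ∞) + ringKrullDim (Y.presheaf.stalk (f x)) := by
  obtain ⟨η, x', h1, h2, he, hmax, hd, hη, hineq⟩ := exists_generic f x
  obtain ⟨hne, hdη⟩ := hgen _ (closure_mem_irreducibleComponents η hmax)
    ((h1.trans h2).mem_closure) η isGenericPoint_closure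
  rw [hη] at hdη
  have := hineq fun e => hne (e ▸ he)
  rw [hdη] at this
  rw [hd, add_comm, add_comm (d : WithBot ℕ∞)]
  exact this

theorem fibreDimAt_eq_of_dim_le_one {X Y : Scheme.{u}} (f : X ⟶ Y) [LocallyOfFiniteType f]
    (x : X) [IsNoetherianRing (Y.presheaf.stalk (f x))]
    (hdimY : ringKrullDim (Y.presheaf.stalk (f x)) ≤ 1) (d : ℕ)
    (hgen : ∀ Z ∈ irreducibleComponents (X : Type u), x ∈ Z → ∀ η : X, IsGenericPoint η Z →
      FlatMor.fibreDimAt f η = d) :
    FlatMor.fibreDimAt f x = d := by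
  obtain ⟨η, x', h1, h2, he, hmax, hd, hη, hineq⟩ := exists_generic f x
  have hdη := hgen _ (closure_mem_irreducibleComponents η hmax)
    ((h1.trans h2).mem_closure) η isGenericPoint_closure
  rw [hη] at hdη
  have hnat : rd f η = d := by exact_mod_cast hdη
  have hle : rd f x' ≤ d := by
    by_cases hne : η = x'
    · rw [← hne, hnat]
    · have h3 := (hineq hne).trans (add_le_add hdimY le_rfl)
      rw [hnat] at h3
      have : 1 + rd f x' ≤ 1 + d := by exact_mod_cast h3
      omega
  have hge : d ≤ rd f x' := by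
    have hopen := isOpen_fibreDimAt_le f (rd f x')
    have := (h1.trans h2).mem_open hopen (show FlatMor.fibreDimAt f x ≤ _ from hd.le)
    have h4 : FlatMor.fibreDimAt f η ≤ (rd f x' : WithBot ℕ∞) := this
    rw [hη, hnat] at h4
    exact_mod_cast h4
  rw [hd, le_antisymm hle hge]

end Groth.Agent.FibIneq18
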